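import Groth.Prelude.Def_OmegaPn
import Groth.Agent.S5959
import Groth.Agent.QC.SubSheaf
import Mathlib.AlgebraicGeometry.Morphisms.Affine
import Mathlib.AlgebraicGeometry.Morphisms.ClosedImmersion
import Mathlib.AlgebraicGeometry.Morphisms.Immersion

/-!
# The principal parts are generated by the image of `d^n`
-/

universe u
open CategoryTheory CategoryTheory.Limits AlgebraicGeometry TopologicalSpace Opposite

set_option backward.isDefEq.respectTransparency false
set_option backward.isDefEq.respectTransparency.types false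
set_option linter.style.haveILetI false

noncomputable section

namespace Groth.Agent.PrinSheaf

/-- A pushout of rings is generated by the two images. -/
theorem closure_eq_top_of_isPushout {R A B P : CommRingCat.{u}} {f : R ⟶ A} {g : R ⟶ B} {i : A ⟶ P}
    {j : B ⟶ P} (h : IsPushout f g i j) :
    Subring.closure (Set.range i ∪ Set.range j) = ⊤ := by
  let C := Subring.closure (Set.range i ∪ Set.range j)
  let i' : A ⟶ CommRingCat.of C :=
    CommRingCat.ofHom (i.hom.codRestrict C fun a ↦ Subring.subset_closure (Or.inl ⟨a, rfl⟩))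
  let j' : B ⟶ CommRingCat.of C :=
    CommRingCat.ofHom (j.hom.codRestrict C fun a ↦ Subring.subset_closure (Or.inr ⟨a, rfl⟩))
  have hw : f ≫ i' = g ≫ j' := by
    ext r
    exact congr($(h.w) r)
  have hid : h.desc i' j' hw ≫ CommRingCat.ofHom C.subtype = 𝟙 P := by
    apply h.hom_ext
    · rw [h.inl_desc_assoc, Category.comp_id]; rfl
    · rw [h.inr_desc_assoc, Category.comp_id]; rfl
  refine eq_top_iff.mpr fun p _ ↦ ?_
  have := congr($hid p)
  change (h.desc i' j' hw p).1 = p at this
  rw [← this]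
  exact (h.desc i' j' hw p).2

variable {X S : Scheme.{u}} (f : X ⟶ S)

/-- Functions on an immersed thickening of the diagonal over an affine piece are generated by the
two projections. -/
theorem induction_of_thickening {N : Scheme.{u}} (jι : N ⟶ pullback f f) [IsImmersion jι]
    (p1 p2 : N ⟶ X) (hj1 : jι ≫ pullback.fst f f = p1) (hj2 : jι ≫ pullback.snd f f = p2)
    (t : X ⟶ N) (ht1 : t ≫ p1 = 𝟙 X) (ht2 : t ≫ p2 = 𝟙 X) (ht : Function.Surjective t)
    (hcomp : p1 ≫ f = p2 ≫ f) (hpre : ∀ U, p1 ⁻¹ᵁ U = p2 ⁻¹ᵁ U) (hp1aff : IsAffineHom p1)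
    {U : X.Opens} (hU : IsAffineOpen U) {V : S.Opens} (hV : IsAffineOpen V)
    (e : U ≤ f ⁻¹ᵁ V) (P : Γ(N, p1 ⁻¹ᵁ U) → Prop)
    (h0 : P 0) (hadd : ∀ c d, P c → P d → P (c + d))
    (hmul : ∀ a b : Γ(X, U), P (p1.appLE U _ le_rfl a * p2.appLE U _ (hpre U).le b))
    (c : Γ(N, p1 ⁻¹ᵁ U)) : P c := by
  let W := p1 ⁻¹ᵁ U
  have e2 : W ≤ p2 ⁻¹ᵁ U := (hpre U).le
  haveI : IsAffine U.toScheme := hU
  haveI : IsAffine V.toScheme := hV
  haveI := hp1aff
  haveI : IsAffine W.toScheme := hU.preimage p1
  let g := f.resLE V U e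
  let p := p1.resLE U W le_rfl
  let q := p2.resLE U W e2
  have hpq : p ≫ g = q ≫ g := by
    simp only [p, q, g, Scheme.Hom.resLE_comp_resLE]
    congr 1
  let κ : W.toScheme ⟶ pullback g g := pullback.lift p q hpq
  let π : pullback g g ⟶ pullback f f := pullback.map g g f f U.ι U.ι V.ι
    (Scheme.Hom.resLE_comp_ι _ _) (Scheme.Hom.resLE_comp_ι _ _)
  have hκπ : κ ≫ π = W.ι ≫ jι := by
    apply pullback.hom_ext
    · simp [κ, π, p, hj1]
    · simp [κ, π, q, hj2]
  haveI : IsImmersion (κ ≫ π) := by rw [hκπ]; infer_instance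
  haveI : IsImmersion κ := IsImmersion.of_comp κ π
  haveI : IsClosedImmersion κ := by
    refine IsClosedImmersion.of_isPreimmersion _ ?_
    have hrange : Set.range κ = Set.range (pullback.diagonal g) := by
      have hle : U ≤ t ⁻¹ᵁ W := fun x hx ↦ by
        change p1 (t x) ∈ U
        rwa [← Scheme.Hom.comp_apply, ht1]
      let τ := t.resLE W U hle
      have hτ : τ ≫ κ = pullback.diagonal g := by
        apply pullback.hom_ext
        · simp only [κ, τ, p, Category.assoc, pullback.lift_fst, pullback.diagonal_fst,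
            Scheme.Hom.resLE_comp_resLE, ht1, Scheme.Hom.resLE_id, Scheme.homOfLE_rfl]
        · simp only [κ, τ, q, Category.assoc, pullback.lift_snd, pullback.diagonal_snd,
            Scheme.Hom.resLE_comp_resLE, ht2, Scheme.Hom.resLE_id, Scheme.homOfLE_rfl]
      have hs : Function.Surjective τ := fun z ↦ by
        obtain ⟨x, hx⟩ := ht z.1
        have hxU : x ∈ U := by
          have : p1 z.1 ∈ U := z.2
          rw [← hx, ← Scheme.Hom.comp_apply, ht1] at this
          exact this
        refine ⟨⟨x, hxU⟩, Subtype.ext ?_⟩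
        have h1 := congr($(Scheme.Hom.resLE_comp_ι t hle).base ⟨x, hxU⟩)
        exact h1.trans hx
      rw [← hτ]
      ext y
      constructor
      · rintro ⟨z, rfl⟩
        obtain ⟨x, rfl⟩ := hs z
        exact ⟨x, Scheme.Hom.comp_apply _ _ _⟩
      · rintro ⟨x, rfl⟩
        exact ⟨τ x, (Scheme.Hom.comp_apply _ _ _).symm⟩
    rw [hrange]
    exact (pullback.diagonal g).isClosedEmbedding.isClosed_range
  have hsurj : Function.Surjective κ.appTop :=
    (IsClosedImmersion.isAffine_surjective_of_isAffine κ).2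
  have hgen := closure_eq_top_of_isPushout
    (isPushout_appTop_of_isPullback (IsPullback.of_hasPullback g g))
  let T : Γ(W.toScheme, ⊤) →+* Γ(N, W) := W.topIso.hom.hom
  have hT1 : ∀ a, T (κ.appTop ((pullback.fst g g).appTop a)) =
      p1.appLE U W le_rfl (U.topIso.hom a) := fun a ↦ by
    have h : κ.appTop ((pullback.fst g g).appTop a) = (κ ≫ pullback.fst g g).appTop a := rfl
    rw [h, pullback.lift_fst]
    exact (congrArg W.topIso.hom (congr($(Scheme.Hom.resLE_app_top p1 (e := le_rfl)) a))).trans (Iso.inv_hom_id_apply W.topIso _)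
  have hT2 : ∀ a, T (κ.appTop ((pullback.snd g g).appTop a)) =
      p2.appLE U W e2 (U.topIso.hom a) := fun a ↦ by
    have h : κ.appTop ((pullback.snd g g).appTop a) = (κ ≫ pullback.snd g g).appTop a := rfl
    rw [h, pullback.lift_snd]
    exact (congrArg W.topIso.hom (congr($(Scheme.Hom.resLE_app_top p2 (e := e2)) a))).trans (Iso.inv_hom_id_apply W.topIso _)
  let φ1 : Γ(X, U) →+* Γ(N, W) := (p1.appLE U W le_rfl).hom
  let φ2 : Γ(X, U) →+* Γ(N, W) := (p2.appLE U W e2).hom
  let Q : Γ(N, W) → Prop := fun d ↦ ∀ a b, P (φ1 a * φ2 b * d)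
  have hQ1 : Q 1 := fun a b ↦ by rw [_root_.mul_one]; exact hmul a b
  suffices ∀ d, Q d by
    have := this c 1 1
    rwa [map_one, map_one, _root_.one_mul, _root_.one_mul] at this
  intro d
  obtain ⟨z, hz⟩ := hsurj (W.topIso.inv d)
  have hd : d = T (κ.appTop z) := by
    rw [hz]; exact (Iso.inv_hom_id_apply W.topIso d).symm
  subst hd
  clear hz
  have hz : z ∈ Subring.closure (Set.range (pullback.fst g g).appTop ∪
      Set.range (pullback.snd g g).appTop) := hgen ▸ Subring.mem_top z
  suffices ∀ d, Q d → Q (d * T (κ.appTop z)) by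
    have := this 1 hQ1
    rwa [_root_.one_mul] at this
  induction hz using Subring.closure_induction with
  | mem z hz =>
    intro d hd a b
    rcases hz with ⟨a', rfl⟩ | ⟨a', rfl⟩
    · rw [hT1, show φ1 a * φ2 b * (d * φ1 (U.topIso.hom a')) =
          φ1 (a * U.topIso.hom a') * φ2 b * d by rw [map_mul]; ring]
      exact hd _ _
    · rw [hT2, show φ1 a * φ2 b * (d * φ2 (U.topIso.hom a')) =
          φ1 a * φ2 (b * U.topIso.hom a') * d by rw [map_mul φ2]; ring]
      exact hd _ _
  | zero => intro d _ a b; simp only [map_zero, mul_zero]; exact h0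
  | one => intro d hd; simpa only [map_one, _root_.mul_one] using hd
  | add x y _ _ hx hy =>
    intro d hd a b
    simp only [map_add, mul_add]
    exact hadd _ _ (hx d hd a b) (hy d hd a b)
  | neg x _ hx =>
    intro d hd a b
    rw [show φ1 a * φ2 b * (d * T (κ.appTop (-x))) = φ1 (-a) * φ2 b * (d * T (κ.appTop x)) by
      simp only [map_neg]; ring]
    exact hx d hd _ _
  | mul x y _ _ hx hy =>
    intro d hd
    rw [map_mul, map_mul, ← mul_assoc]
    exact hy _ (hx d hd)

variable (n : ℕ)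

/-- Over an affine piece the functions on `X^{(n)}` are sums of products `pr₁^# a * pr₂^# b`. -/
theorem induction_sections {U : X.Opens} (hU : IsAffineOpen U) {V : S.Opens} (hV : IsAffineOpen V)
    (e : U ≤ f ⁻¹ᵁ V) (P : Γ(PrinPart.nbhd f n, PrinPart.pr1 f n ⁻¹ᵁ U) → Prop)
    (h0 : P 0) (hadd : ∀ c d, P c → P d → P (c + d))
    (hmul : ∀ a b : Γ(X, U), P ((PrinPart.pr1 f n).appLE U _ le_rfl a *
      (PrinPart.pr2 f n).appLE U _ (PrinPart.preimage_pr1 f n U).le b))
    (c : Γ(PrinPart.nbhd f n, PrinPart.pr1 f n ⁻¹ᵁ U)) : P c := by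
  haveI : IsClosedImmersion (PrinPart.infNbhdι (PrinPart.diagCl f) n) :=
    inferInstanceAs (IsClosedImmersion ((PrinPart.diagCl f).ker ^ (n + 1)).subschemeι)
  haveI : IsImmersion (PrinPart.nbhdι f n) := by unfold PrinPart.nbhdι; infer_instance
  exact induction_of_thickening f (PrinPart.nbhdι f n) (PrinPart.pr1 f n) (PrinPart.pr2 f n) rfl rfl
    (PrinPart.toNbhd f n) (PrinPart.toNbhd_pr1 f n) (PrinPart.toNbhd_pr2 f n)
    (PrinPart.toInfNbhd_surjective (PrinPart.diagCl f) n) (PrinPart.pr1_comp f n)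
    (PrinPart.preimage_pr1 f n) (S5959.isAffineHom_pr1 f n) hU hV e P h0 hadd hmul c

end Groth.Agent.PrinSheaf

namespace Groth.Agent.PrinSheaf

open Groth.Agent.QC

/-- `O_X`-linear maps out of `P^n(F)` agreeing on the image of `d^n` coincide. -/
theorem hom_ext_dP {X S : Scheme.{u}} (f : X ⟶ S) {F G : X.Modules} (n : ℕ)
    (a b : PrinPart.PMod f n F ⟶ G)
    (h : ∀ (U : X.Opens) (t : Γ(F, U)),
      a.app U (PrinPart.dP f n F U t) = b.app U (PrinPart.dP f n F U t)) : a = b := by
  let M := (Scheme.Modules.pullback (PrinPart.pr2 f n)).obj F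
  have hinv : ∀ z, PrinPart.toNbhd f n (PrinPart.pr1 f n z) = z := fun z ↦ by
    obtain ⟨x, rfl⟩ := PrinPart.toInfNbhd_surjective (PrinPart.diagCl f) n z
    rw [← Scheme.Hom.comp_apply (PrinPart.toNbhd f n) (PrinPart.pr1 f n), PrinPart.toNbhd_pr1]
    rfl
  let K : Sub M :=
    { obj := fun W ↦
        { carrier := {m | ∀ (U : X.Opens) (hU : PrinPart.pr1 f n ⁻¹ᵁ U ≤ W)
            (c : Γ(PrinPart.nbhd f n, PrinPart.pr1 f n ⁻¹ᵁ U)),
            a.app U (c • res M hU m) = b.app U (c • res M hU m)}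
          add_mem' := fun {m m'} hm hm' U hU c ↦ by
            change a.app U (c • res M hU (m + m')) = b.app U (c • res M hU (m + m'))
            rw [map_add, smul_add]
            exact ((map_add _ _ _).trans (congr_arg₂ (· + ·) (hm U hU c) (hm' U hU c))).trans
              (map_add _ _ _).symm
          zero_mem' := fun U hU c ↦ by
            change a.app U (c • res M hU 0) = b.app U (c • res M hU 0)
            rw [map_zero, smul_zero]
            exact (map_zero _).trans (map_zero _).symm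
          smul_mem' := fun r m hm U hU c ↦ by
            change a.app U (c • res M hU (r • m)) = b.app U (c • res M hU (r • m))
            rw [res_smul, smul_smul]
            exact hm U hU _ }
      res_mem := fun {W' W} hW {m} hm U hU c ↦ by
        change a.app U (c • res M hU (res M hW m)) = b.app U (c • res M hU (res M hW m))
        rw [res_res]
        exact hm U (hU.trans hW) c
      local' := fun {W} m hm U hU c ↦ section_eq_of_locally fun x hx ↦ by
        have hxW : PrinPart.toNbhd f n x ∈ W := hU (by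
          change PrinPart.pr1 f n (PrinPart.toNbhd f n x) ∈ U
          rwa [← Scheme.Hom.comp_apply, PrinPart.toNbhd_pr1])
        obtain ⟨W', hW', hxW', hmem⟩ := hm _ hxW
        refine ⟨PrinPart.toNbhd f n ⁻¹ᵁ W' ⊓ U, inf_le_right, ⟨hxW', hx⟩, ?_⟩
        have hle : PrinPart.pr1 f n ⁻¹ᵁ (PrinPart.toNbhd f n ⁻¹ᵁ W' ⊓ U) ≤ W' := fun z hz ↦ by
          have := hz.1
          change PrinPart.toNbhd f n (PrinPart.pr1 f n z) ∈ W' at this
          rwa [hinv] at this
        have := hmem _ hle (resO _ ((PrinPart.pr1 f n).preimage_mono inf_le_right) c)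
        rw [res_res] at this
        have e : PrinPart.pr1 f n ⁻¹ᵁ (PrinPart.toNbhd f n ⁻¹ᵁ W' ⊓ U) ≤ PrinPart.pr1 f n ⁻¹ᵁ U :=
          (PrinPart.pr1 f n).preimage_mono inf_le_right
        have key : res (PrinPart.PMod f n F)
            (inf_le_right : PrinPart.toNbhd f n ⁻¹ᵁ W' ⊓ U ≤ U) (c • res M hU m) =
            resO (PrinPart.nbhd f n) e c • res M (hle.trans hW') m := by
          change res M ((PrinPart.pr1 f n).preimage_mono inf_le_right) (c • res M hU m) = _
          rw [res_smul, res_res]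
        rw [app_res, app_res, key]
        exact this }
  have hK : ∀ (U₀ : X.Opens) (t : Γ(F, U₀)),
      OmegaSh.pullSect (PrinPart.pr2 f n) F U₀ t ∈ K.obj (PrinPart.pr2 f n ⁻¹ᵁ U₀) := by
    intro U₀ t U hU c
    refine section_eq_of_locally fun x hx ↦ ?_
    obtain ⟨V, hV, hxV, -⟩ := exists_isAffineOpen_mem_and_subset (X := S) (x := f x) (U := ⊤) trivial
    obtain ⟨U', hU', hxU', hle⟩ := exists_isAffineOpen_mem_and_subset
      (show x ∈ U ⊓ f ⁻¹ᵁ V from ⟨hx, hxV⟩)
    have hUU : U' ≤ U := hle.trans inf_le_left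
    refine ⟨U', hUU, hxU', ?_⟩
    rw [app_res, app_res]
    have hU0 : U' ≤ U₀ := fun y hy ↦ by
      have := hU (show PrinPart.toNbhd f n y ∈ PrinPart.pr1 f n ⁻¹ᵁ U from by
        change PrinPart.pr1 f n (PrinPart.toNbhd f n y) ∈ U
        rw [← Scheme.Hom.comp_apply, PrinPart.toNbhd_pr1]; exact hUU hy)
      change PrinPart.pr2 f n (PrinPart.toNbhd f n y) ∈ U₀ at this
      rwa [← Scheme.Hom.comp_apply, PrinPart.toNbhd_pr2] at this
    set e1 : PrinPart.pr1 f n ⁻¹ᵁ U' ≤ PrinPart.pr2 f n ⁻¹ᵁ U₀ :=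
      ((PrinPart.pr1 f n).preimage_mono hUU).trans hU
    have key : res (PrinPart.PMod f n F) hUU
        (c • res M hU (OmegaSh.pullSect (PrinPart.pr2 f n) F U₀ t)) =
        resO _ ((PrinPart.pr1 f n).preimage_mono hUU) c •
          res M e1 (OmegaSh.pullSect (PrinPart.pr2 f n) F U₀ t) := by
      change res M ((PrinPart.pr1 f n).preimage_mono hUU) (c • res M hU _) = _
      rw [res_smul, res_res]
    rw [key]
    generalize resO _ ((PrinPart.pr1 f n).preimage_mono hUU) c = d
    refine induction_sections f n hU' hV (hle.trans inf_le_right)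
      (fun d ↦ a.app U' (d • res M e1 (OmegaSh.pullSect (PrinPart.pr2 f n) F U₀ t)) =
        b.app U' (d • res M e1 (OmegaSh.pullSect (PrinPart.pr2 f n) F U₀ t))) ?_ ?_ ?_ d
    · rw [zero_smul]
      exact (map_zero _).trans (map_zero _).symm
    · intro p q hp hq
      rw [add_smul]
      exact ((map_add _ _ _).trans (congr_arg₂ (· + ·) hp hq)).trans (map_add _ _ _).symm
    · intro α β
      have hd : ((PrinPart.pr1 f n).appLE U' _ le_rfl α *
          (PrinPart.pr2 f n).appLE U' _ (PrinPart.preimage_pr1 f n U').le β) •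
          res M e1 (OmegaSh.pullSect (PrinPart.pr2 f n) F U₀ t) =
          α • PrinPart.dP f n F U' (β • res F hU0 t) := by
        rw [PrinPart.dP_apply, OmegaSh.pullSect_smul, OmegaSh.pullSect_map]
        change _ = (PrinPart.pr1 f n).app U' α • res M (PrinPart.preimage_pr1 f n U').le
          ((PrinPart.pr2 f n).app U' β • res M ((PrinPart.pr2 f n).preimage_mono hU0)
            (OmegaSh.pullSect (PrinPart.pr2 f n) F U₀ t))
        rw [res_smul, res_res, smul_smul, ← Scheme.Hom.app_eq_appLE]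
        rfl
      rw [hd]
      exact ((Scheme.Modules.Hom.app_smul _ _ _).trans (congrArg (α • ·) (h U' _))).trans
        (Scheme.Modules.Hom.app_smul _ _ _).symm
  -- the subsheaf is everything
  let adj := Scheme.Modules.pullbackPushforwardAdjunction (PrinPart.pr2 f n)
  haveI : Mono ((Scheme.Modules.pushforward (PrinPart.pr2 f n)).map K.ι) :=
    inferInstance
  obtain ⟨ψ, hψ⟩ := exists_lift_of_range ((Scheme.Modules.pushforward (PrinPart.pr2 f n)).map K.ι)
    (adj.unit.app F) fun O t ↦ (K.range_ι_app _ _).mpr (hK O t)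
  have hs : (adj.homEquiv _ _).symm ψ ≫ K.ι = 𝟙 M := by
    apply (adj.homEquiv _ _).injective
    rw [adj.homEquiv_naturality_right, Equiv.apply_symm_apply, hψ, adj.homEquiv_unit]
    exact ((congrArg (adj.unit.app F ≫ ·) ((Scheme.Modules.pushforward (PrinPart.pr2 f n)).map_id M)).trans (Category.comp_id _)).symm
  refine Scheme.Modules.hom_ext _ _ fun U ↦ ?_
  ext s
  have hs' : s ∈ K.obj (PrinPart.pr1 f n ⁻¹ᵁ U) :=
    (K.range_ι_app _ _).mp ⟨((adj.homEquiv _ _).symm ψ).app _ s,
      congr(($hs).app (PrinPart.pr1 f n ⁻¹ᵁ U) s)⟩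
  have := hs' U le_rfl 1
  rwa [one_smul, res_self] at this

end Groth.Agent.PrinSheaf
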