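import Groth.Prelude.Def_OmegaPn
import Groth.Agent.QC.Basic

/-!
# Products of `n+1` functions vanishing on the diagonal are zero on `X^{(n)}`
-/

universe u
open CategoryTheory CategoryTheory.Limits AlgebraicGeometry TopologicalSpace Opposite

set_option backward.isDefEq.respectTransparency false
set_option backward.isDefEq.respectTransparency.types false
set_option linter.style.haveILetI false

noncomputable section

namespace Groth.Agent.PrinSheaf

theorem prod_eq_zero_aux {X Y : Scheme.{u}} (I K : X.IdealSheafData) (n : ℕ)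
    (hK : ∀ U, K.ideal U = I.ideal U ^ (n + 1)) (t : Y ⟶ K.subscheme)
    [QuasiCompact (t ≫ K.subschemeι)] (hker : (t ≫ K.subschemeι).ker = I)
    (O : K.subscheme.Opens) (c : Fin (n + 1) → Γ(K.subscheme, O))
    (h : ∀ k, t.app O (c k) = 0) : ∏ k, c k = 0 := by
  let j : K.subscheme ⟶ X := K.subschemeι
  refine QC.section_eq_of_locally (M := Coh.structureModule (K.subscheme)) fun z hz => ?_
  obtain ⟨O', hO', e⟩ := (IsClosedImmersion.isClosedEmbedding j).isInducing.isOpen_iff.mp O.2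
  obtain ⟨U, hU, hzU, hle⟩ := exists_isAffineOpen_mem_and_subset (X := X) (x := j z) (U := ⟨O', hO'⟩)
    (show z ∈ j ⁻¹' O' by rw [e]; exact hz)
  have hsub : j ⁻¹ᵁ U ≤ O := fun y hy => by
    have : y ∈ j ⁻¹' O' := hle hy
    rwa [e] at this
  refine ⟨j ⁻¹ᵁ U, hsub, hzU, ?_⟩
  change QC.resO _ hsub (∏ k, c k) = QC.resO _ hsub 0
  rw [map_prod, map_zero]
  choose s hs using fun k => K.subschemeι_app_surjective ⟨U, hU⟩ (QC.resO _ hsub (c k))
  have hmem : ∀ k, s k ∈ I.ideal ⟨U, hU⟩ := fun k => by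
    rw [← hker, Scheme.Hom.ker_apply, RingHom.mem_ker]
    change t.app (j ⁻¹ᵁ U) (j.app U (s k)) = 0
    rw [show j.app U (s k) = QC.resO _ hsub (c k) from hs k]
    have := congr($(t.naturality (homOfLE hsub).op) (c k))
    refine this.trans ?_
    change (Y.presheaf.map _).hom (t.app O (c k)) = 0
    rw [h, map_zero]
  have hp : ∏ k, s k ∈ K.ideal ⟨U, hU⟩ := by
    rw [hK]
    have := Ideal.prod_mem_prod (s := Finset.univ) (I := fun _ : Fin (n + 1) => I.ideal ⟨U, hU⟩)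
      fun k _ => hmem k
    simpa using this
  rw [← K.ker_subschemeι_app ⟨U, hU⟩, RingHom.mem_ker, map_prod] at hp
  exact (Finset.prod_congr rfl fun k _ => (hs k).symm).trans hp

theorem prod_eq_zero {X Y : Scheme.{u}} (i : Y ⟶ X) [IsClosedImmersion i] (n : ℕ)
    (O : (PrinPart.infNbhd i n).Opens) (c : Fin (n + 1) → Γ(PrinPart.infNbhd i n, O))
    (h : ∀ k, (PrinPart.toInfNbhd i n).app O (c k) = 0) : ∏ k, c k = 0 :=
  have e : PrinPart.toInfNbhd i n ≫ (i.ker ^ (n + 1)).subschemeι = i := PrinPart.toInfNbhd_ι i n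
  have : QuasiCompact (PrinPart.toInfNbhd i n ≫ (i.ker ^ (n + 1)).subschemeι) := e.symm ▸ inferInstance
  prod_eq_zero_aux i.ker (i.ker ^ (n + 1)) n (fun U => by rw [Scheme.IdealSheafData.ideal_pow, Pi.pow_apply])
    (PrinPart.toInfNbhd i n) (congrArg Scheme.Hom.ker e) O c h

variable {X S : Scheme.{u}} (f : X ⟶ S) (n : ℕ)

/-- `pr₂^# a - pr₁^# a`. -/
def delta (U : X.Opens) (a : Γ(X, U)) : Γ(PrinPart.nbhd f n, PrinPart.pr1 f n ⁻¹ᵁ U) :=
  (PrinPart.pr2 f n).appLE U _ (PrinPart.preimage_pr1 f n U).le a - (PrinPart.pr1 f n).app U a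

theorem app_sub_eq_zero {N Z : Scheme.{u}} (t : Z ⟶ N) (p1 p2 : N ⟶ Z) (h1 : t ≫ p1 = 𝟙 Z) (h2 : t ≫ p2 = 𝟙 Z)
    (U : Z.Opens) (e : p1 ⁻¹ᵁ U ≤ p2 ⁻¹ᵁ U) (a : Γ(Z, U)) :
    t.app (p1 ⁻¹ᵁ U) (p2.appLE U (p1 ⁻¹ᵁ U) e a - p1.app U a) = 0 := by
  have hid : ∀ (g : Z ⟶ Z) (_ : g = 𝟙 Z) (V : Z.Opens) (e' : V ≤ g ⁻¹ᵁ U) (hle : V ≤ U),
      g.appLE U V e' a = QC.resO Z hle a := by
    intro g hg V e' hle
    subst hg
    simp [Scheme.Hom.appLE, QC.resO]
  have hle : t ⁻¹ᵁ p1 ⁻¹ᵁ U ≤ U := by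
    rw [← Scheme.Hom.comp_preimage, h1]; exact le_rfl
  rw [map_sub, Scheme.Hom.app_eq_appLE, Scheme.Hom.app_eq_appLE, ← CommRingCat.comp_apply,
    ← CommRingCat.comp_apply, Scheme.Hom.appLE_comp_appLE, Scheme.Hom.appLE_comp_appLE,
    hid _ h2 _ _ hle, hid _ h1 _ _ hle, sub_self]

theorem delta_restrict (U : X.Opens) (a : Γ(X, U)) :
    (PrinPart.toNbhd f n).app _ (delta f n U a) = 0 :=
  app_sub_eq_zero (PrinPart.toNbhd f n) (PrinPart.pr1 f n) (PrinPart.pr2 f n) (PrinPart.toNbhd_pr1 f n)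
    (PrinPart.toNbhd_pr2 f n) U (PrinPart.preimage_pr1 f n U).le a

theorem prod_delta_eq_zero (U : X.Opens) (a : Fin (n + 1) → Γ(X, U)) :
    ∏ k, delta f n U (a k) = 0 :=
  prod_eq_zero (PrinPart.diagCl f) n _ _ fun k => delta_restrict f n U (a k)

end Groth.Agent.PrinSheaf
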