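import Groth.Prelude.Def_OmegaPn
import Groth.Agent.S5968
import Groth.Agent.GrpdFit.Ideal
import Groth.Agent.HTopV.PhSquare
import Groth.Agent.ModDesc.Iso
import Groth.Agent.LocFree.Props
import Groth.Agent.LimDesc.FPCancel
import Mathlib.RingTheory.Finiteness.ModuleFinitePresentation

/-!
# Finite presentation of principal parts
-/

universe u
open CategoryTheory CategoryTheory.Limits AlgebraicGeometry TopologicalSpace Opposite

set_option backward.isDefEq.respectTransparency false
set_option backward.isDefEq.respectTransparency.types false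
set_option linter.style.haveILetI false

noncomputable section

namespace Groth.Agent.PrinSheaf

/-- Direct image along a finite morphism of finite presentation preserves finite presentation. -/
theorem isFP_pushforward_of_isFinite {X Y : Scheme.{u}} {M : X.Modules} (g : X ⟶ Y) [IsFinite g]
    [LocallyOfFinitePresentation g] (hM : Coh.IsQCoh M) (h : CohB1.IsFP M) :
    CohB1.IsFP ((Scheme.Modules.pushforward g).obj M) := by
  haveI : M.IsQuasicoherent := hM
  haveI hq : ((Scheme.Modules.pushforward g).obj M).IsQuasicoherent := QC.isQCoh_pushforward g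
  refine QC.isFP_iff_exists_hasFinPres.2 fun y => ?_
  obtain ⟨V, hV, hy, -⟩ := exists_isAffineOpen_mem_and_subset (X := Y) (x := y) (U := ⊤) (by trivial)
  have hU : IsAffineOpen (g ⁻¹ᵁ V) := hV.preimage g
  haveI := LocFree.finitePresentation_sections_of_isFP hM h hU
  have hfp : (g.app V).hom.FinitePresentation := by
    have := LocallyOfFinitePresentation.finitePresentation_appLE g hV hU le_rfl
    rwa [← g.app_eq_appLE] at this
  algebraize [(g.app V).hom]
  haveI : Module.Finite Γ(Y, V) Γ(X, g ⁻¹ᵁ V) := IsFinite.finite_app g V hV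
  haveI := Module.FinitePresentation.of_finite_of_finitePresentation Γ(Y, V) Γ(X, g ⁻¹ᵁ V)
  letI : Module Γ(Y, V) Γ(M, g ⁻¹ᵁ V) := Module.compHom _ (g.app V).hom
  haveI : IsScalarTower Γ(Y, V) Γ(X, g ⁻¹ᵁ V) Γ(M, g ⁻¹ᵁ V) :=
    IsScalarTower.of_algebraMap_smul fun _ _ ↦ rfl
  haveI : Module.FinitePresentation Γ(Y, V) Γ(M, g ⁻¹ᵁ V) :=
    Module.FinitePresentation.trans Γ(Y, V) Γ(M, g ⁻¹ᵁ V) Γ(X, g ⁻¹ᵁ V)
  haveI : Module.FinitePresentation Γ(Y, V) Γ((Scheme.Modules.pushforward g).obj M, V) :=
    Module.FinitePresentation.of_equiv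
      ({ toFun := id, invFun := id, map_add' := fun _ _ ↦ rfl, map_smul' := fun _ _ ↦ rfl } :
        Γ(M, g ⁻¹ᵁ V) ≃ₗ[Γ(Y, V)] Γ((Scheme.Modules.pushforward g).obj M, V))
  exact ⟨V, hy, QC.hasFinPres_of_finitePresentation hV⟩

variable {X S : Scheme.{u}} (f : X ⟶ S)

theorem lfp_diagCl [LocallyOfFiniteType f] : LocallyOfFinitePresentation (PrinPart.diagCl f) := by
  haveI : LocallyOfFinitePresentation (pullback.diagonal f ≫ pullback.fst f f) := by
    rw [pullback.diagonal_fst]; infer_instance
  haveI : LocallyOfFinitePresentation (pullback.diagonal f) :=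
    LimDesc.lfp_of_comp (pullback.diagonal f) (pullback.fst f f)
  haveI : LocallyOfFinitePresentation
      (PrinPart.diagCl f ≫ (pullback.diagonal f).coborderRange.ι) := by
    rw [Scheme.Hom.liftCoborder_ι]; infer_instance
  exact LimDesc.lfp_of_comp (PrinPart.diagCl f) (pullback.diagonal f).coborderRange.ι

theorem fg_ker_diagCl [LocallyOfFiniteType f]
    (U : ((pullback.diagonal f).coborderRange : Scheme.{u}).affineOpens) :
    ((PrinPart.diagCl f).ker.ideal U).FG := by
  haveI := lfp_diagCl f
  exact HTopV.fg_ker_ideal (PrinPart.diagCl f) U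

theorem lfp_pr1 [LocallyOfFinitePresentation f] (n : ℕ) :
    LocallyOfFinitePresentation (PrinPart.pr1 f n) := by
  haveI : LocallyOfFinitePresentation (PrinPart.infNbhdι (PrinPart.diagCl f) n) :=
    GrpdFit.lfp_subschemeι _ fun x => by
      obtain ⟨U, hU, hx, -⟩ := exists_isAffineOpen_mem_and_subset (U := ⊤) (x := x) (by trivial)
      refine ⟨⟨U, hU⟩, hx, ?_⟩
      rw [Scheme.IdealSheafData.ideal_pow]
      exact (fg_ker_diagCl f ⟨U, hU⟩).pow
  unfold PrinPart.pr1 PrinPart.nbhdι
  infer_instance

end Groth.Agent.PrinSheaf
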